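import Groth.Agent.Lib.Regular.Quotient
import Mathlib.FieldTheory.IsSepClosed
import Mathlib.RingTheory.Henselian
import Mathlib.RingTheory.Localization.Away.Basic
import Mathlib.RingTheory.LocalRing.ResidueField.Basic

/-!
# Units of a regular strictly henselian ring with one parameter inverted
-/

universe u

open IsLocalRing Polynomial

namespace Groth.Agent.Lib.EtMu36.Units

theorem exists_pow_eq {A : Type u} [CommRing A] [HenselianLocalRing A]
    [IsSepClosed (ResidueField A)] {n : ℕ} (hn0 : 0 < n) (hn : IsUnit (n : A)) {b : A} (hb : IsUnit b) :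
    ∃ y : A, y ^ n = b := by
  have hnk : (n : ResidueField A) ≠ 0 := by
    rw [← map_natCast (residue A)]; exact (residue_ne_zero_iff_isUnit _).mpr hn
  have hbk : residue A b ≠ 0 := (residue_ne_zero_iff_isUnit _).mpr hb
  obtain ⟨z, hz⟩ := IsSepClosed.exists_root (X ^ n - C (residue A b))
    (by rw [degree_X_pow_sub_C hn0]; exact_mod_cast hn0.ne')
    (separable_X_pow_sub_C _ hnk hbk)
  obtain ⟨w, rfl⟩ := residue_surjective z
  simp only [IsRoot.def, eval_sub, eval_pow, eval_X, eval_C, sub_eq_zero] at hz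
  have hw : residue A w ≠ 0 := fun h0 => hbk (by rw [← hz, h0, zero_pow hn0.ne'])
  obtain ⟨y, hy, -⟩ := HenselianLocalRing.is_henselian (X ^ n - C b) (monic_X_pow_sub_C _ hn0.ne') w
    (by rw [← residue_eq_zero_iff]; simp [hz])
    (by
      rw [derivative_sub, derivative_C, sub_zero, derivative_X_pow, eval_mul, eval_C, eval_pow, eval_X]
      exact hn.mul (((residue_ne_zero_iff_isUnit _).mp hw).pow (n - 1)))
  refine ⟨y, ?_⟩
  simpa [sub_eq_zero] using hy

theorem prime_of_regular {A : Type u} [CommRing A] [IsRegularLocalRing A] {x : A}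
    (hx : x ∈ maximalIdeal A) (hx2 : x ∉ maximalIdeal A ^ 2) : Prime x := by
  have := (Regular.Quotient.quotient_singleton hx hx2).1
  have := Regular.Quotient.isDomain (A ⧸ Ideal.span {x})
  have hne : x ≠ 0 := fun h => hx2 (h ▸ zero_mem _)
  exact (Ideal.span_singleton_prime hne).mp ((Ideal.Quotient.isDomain_iff_prime _).mp inferInstance)

variable {A : Type u} [CommRing A] [IsDomain A] {x : A}

theorem exists_decomp (hx : Prime x) {B : Type u} [CommRing B] [Algebra A B]
    [IsLocalization.Away x B] (w : Bˣ) :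
    ∃ (a : Aˣ) (i j : ℕ), (w : B) * algebraMap A B x ^ j = algebraMap A B a * algebraMap A B x ^ i := by
  have hinj : Function.Injective (algebraMap A B) :=
    IsLocalization.injective B (powers_le_nonZeroDivisors_of_noZeroDivisors hx.ne_zero)
  obtain ⟨⟨a, _, j, rfl⟩, ha⟩ := IsLocalization.surj (Submonoid.powers x) (w : B)
  obtain ⟨⟨b, _, k, rfl⟩, hb⟩ := IsLocalization.surj (Submonoid.powers x) (↑w⁻¹ : B)
  simp only [map_pow] at ha hb
  have hab : a * b = x ^ (j + k) := hinj (by
    rw [map_mul, ← ha, ← hb, map_pow, pow_add, mul_mul_mul_comm, Units.mul_inv, one_mul])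
  obtain ⟨i, -, hi⟩ := (dvd_prime_pow hx _).mp (Dvd.intro b hab)
  obtain ⟨v, hv⟩ := hi.symm
  refine ⟨v, i, j, ?_⟩
  rw [ha, ← hv, map_mul, map_pow, mul_comm]

theorem exponent_unique (hx : Prime x) {a b : Aˣ} {i j : ℕ} (h : (a : A) * x ^ i = b * x ^ j) :
    i = j := by
  have key : ∀ {a b : Aˣ} {i j : ℕ}, (a : A) * x ^ i = b * x ^ j → j ≤ i := by
    intro a b i j h
    refine (pow_dvd_pow_iff hx.ne_zero hx.not_unit).mp ?_
    exact (Units.dvd_mul_left (u := a)).mp ⟨b, by rw [h, mul_comm]⟩
  exact le_antisymm (key h.symm) (key h)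

end Groth.Agent.Lib.EtMu36.Units
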